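import Cfsg.Agent.J4Rep94.M672.Check0
import Cfsg.Agent.J4Rep94.M672.Check1
import Cfsg.Agent.J4Rep94.M672.Check2
import Cfsg.Agent.J4Rep94.M672.Check3
import Cfsg.Agent.J4Rep94.M672.Check4
import Cfsg.Agent.J4Rep94.M672.Check5
import Cfsg.Agent.J4Rep94.C0.Cert
import Cfsg.Agent.J4Rep94.C1.Cert
import Cfsg.Agent.J4Rep94.C10.Cert
import Cfsg.Agent.J4Rep94.C11.Cert
import Cfsg.Agent.J4Rep94.C12.Cert
import Cfsg.Agent.J4Rep94.C13.Cert
import Cfsg.Agent.J4Rep94.C14.Cert
import Cfsg.Agent.J4Rep94.C15.Cert
import Cfsg.Agent.J4Rep94.C16.Cert
import Cfsg.Agent.J4Rep94.C17.Cert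
import Cfsg.Agent.J4Rep94.C18.Cert
import Cfsg.Agent.J4Rep94.C19.Cert
import Cfsg.Agent.J4Rep94.C20.Cert
import Cfsg.Agent.J4Rep94.C21.Cert
import Cfsg.Agent.J4Rep94.C22.Cert
import Cfsg.Agent.J4Rep94.C23.Cert
import Cfsg.Agent.J4Rep94.C24.Cert
import Cfsg.Agent.J4Rep94.C3.Cert
import Cfsg.Agent.J4Rep94.C4.Cert
import Cfsg.Agent.J4Rep94.C5.Cert
import Cfsg.Agent.J4Rep94.C6.Cert
import Cfsg.Agent.J4Rep94.C7.Cert
import Cfsg.Agent.J4Rep94.C8.Cert
import Cfsg.Agent.J4Rep94.C9.Cert
import Cfsg.Agent.J4Rep94.S0.Cert
import Cfsg.Agent.J4Rep94.S1.Cert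
import Cfsg.Agent.J4Rep94.S2.Cert
import Cfsg.Agent.J4Rep94.S3.Cert
import Cfsg.Agent.J4Rep94.S4.Cert

/-!
# Certificate data
-/

set_option autoImplicit false
set_option maxRecDepth 100000

namespace Cfsg.Agent.J4Rep94.M672

open Cfsg.Agent.CosetEnum

theorem dok0 : allRange sys.checkDef 0 2048 = true := by decide +kernel

theorem dok1 : allRange sys.checkDef 2048 2048 = true := by decide +kernel

theorem dok2 : allRange sys.checkDef 4096 2048 = true := by decide +kernel

theorem dok3 : allRange sys.checkDef 6144 2048 = true := by decide +kernel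

theorem dok4 : allRange sys.checkDef 8192 2048 = true := by decide +kernel

theorem dok5 : allRange sys.checkDef 10240 2048 = true := by decide +kernel

theorem dok6 : allRange sys.checkDef 12288 2048 = true := by decide +kernel

theorem dok7 : allRange sys.checkDef 14336 2048 = true := by decide +kernel

theorem dok8 : allRange sys.checkDef 16384 2048 = true := by decide +kernel

theorem dok9 : allRange sys.checkDef 18432 2048 = true := by decide +kernel

theorem dok10 : allRange sys.checkDef 20480 2048 = true := by decide +kernel

theorem dok11 : allRange sys.checkDef 22528 2048 = true := by decide +kernel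

theorem dok12 : allRange sys.checkDef 24576 2048 = true := by decide +kernel

theorem dok13 : allRange sys.checkDef 26624 2048 = true := by decide +kernel

theorem dok14 : allRange sys.checkDef 28672 2048 = true := by decide +kernel

theorem dok15 : allRange sys.checkDef 30720 2048 = true := by decide +kernel

theorem dok16 : allRange sys.checkDef 32768 2048 = true := by decide +kernel

theorem dok17 : allRange sys.checkDef 34816 2048 = true := by decide +kernel

theorem dok18 : allRange sys.checkDef 36864 2048 = true := by decide +kernel

theorem dok19 : allRange sys.checkDef 38912 2048 = true := by decide +kernel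

theorem dok20 : allRange sys.checkDef 40960 2048 = true := by decide +kernel

theorem dok21 : allRange sys.checkDef 43008 2048 = true := by decide +kernel

theorem dok22 : allRange sys.checkDef 45056 2048 = true := by decide +kernel

theorem dok23 : allRange sys.checkDef 47104 2048 = true := by decide +kernel

theorem dok24 : allRange sys.checkDef 49152 2048 = true := by decide +kernel

theorem dok25 : allRange sys.checkDef 51200 2048 = true := by decide +kernel

theorem dok26 : allRange sys.checkDef 53248 2048 = true := by decide +kernel

theorem dok27 : allRange sys.checkDef 55296 2048 = true := by decide +kernel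

theorem dok28 : allRange sys.checkDef 57344 2048 = true := by decide +kernel

theorem dok29 : allRange sys.checkDef 59392 1818 = true := by decide +kernel

def fchunks : List (ℕ × ℕ) := [(128, fv0), (128, fv1), (128, fv2), (128, fv3), (128, fv4), (128, fv5), (128, fv6), (128, fv7), (128, fv8), (128, fv9), (128, fv10), (128, fv11), (128, fv12), (128, fv13), (128, fv14), (128, fv15), (128, fv16), (128, fv17), (128, fv18), (128, fv19), (128, fv20), (128, fv21), (128, fv22), (128, fv23), (128, fv24), (128, fv25), (128, fv26), (128, fv27), (128, fv28), (128, fv29), (128, fv30), (128, fv31), (128, fv32), (128, fv33), (128, fv34), (128, fv35), (128, fv36), (128, fv37), (128, fv38), (128, fv39), (128, fv40), (128, fv41), (128, fv42), (128, fv43), (128, fv44), (128, fv45), (128, fv46), (128, fv47), (128, fv48), (128, fv49), (128, fv50), (128, fv51), (128, fv52), (128, fv53), (128, fv54), (128, fv55), (128, fv56), (128, fv57), (128, fv58), (128, fv59), (128, fv60), (128, fv61), (128, fv62), (128, fv63), (128, fv64), (128, fv65), (128, fv66), (128, fv67), (128, fv68), (128, fv69), (128, fv70),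 (128, fv71), (128, fv72), (128, fv73), (128, fv74), (128, fv75), (128, fv76), (128, fv77), (128, fv78), (128, fv79), (128, fv80), (128, fv81), (128, fv82), (128, fv83), (128, fv84), (128, fv85), (128, fv86), (128, fv87), (128, fv88), (128, fv89), (128, fv90), (128, fv91), (128, fv92), (128, fv93), (128, fv94), (128, fv95), (128, fv96), (128, fv97), (128, fv98), (128, fv99), (128, fv100), (128, fv101), (128, fv102), (128, fv103), (128, fv104), (128, fv105), (128, fv106), (128, fv107), (128, fv108), (128, fv109), (128, fv110), (128, fv111), (128, fv112), (128, fv113), (128, fv114), (128, fv115), (128, fv116), (128, fv117), (128, fv118), (128, fv119), (128, fv120), (128, fv121), (128, fv122), (128, fv123), (128, fv124), (128, fv125), (128, fv126), (128, fv127), (128, fv128), (128, fv129), (128, fv130), (128, fv131), (128, fv132), (128, fv133), (128, fv134), (128, fv135), (128, fv136), (128, fv137), (128, fv138), (128, fv139), (128, fv140), (128, fv141), (128, fv142), (128, fv143), (128, fv144), (128, fv145), (128, fv146), (128, fv147), (128, fv148), (128, fv149), (128, fv150), (128,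 fv151), (128, fv152), (128, fv153), (128, fv154), (128, fv155), (128, fv156), (128, fv157), (128, fv158), (128, fv159), (128, fv160), (128, fv161), (128, fv162), (128, fv163), (128, fv164), (128, fv165), (128, fv166), (128, fv167), (128, fv168), (128, fv169), (128, fv170), (128, fv171), (128, fv172), (128, fv173), (128, fv174), (128, fv175), (128, fv176), (128, fv177), (128, fv178), (128, fv179), (128, fv180), (128, fv181), (128, fv182), (128, fv183), (128, fv184), (128, fv185), (128, fv186), (128, fv187), (128, fv188), (128, fv189), (128, fv190), (128, fv191), (128, fv192), (128, fv193), (128, fv194), (128, fv195), (128, fv196), (128, fv197), (128, fv198), (128, fv199), (128, fv200), (128, fv201), (128, fv202), (128, fv203), (128, fv204), (128, fv205), (128, fv206), (128, fv207), (128, fv208), (128, fv209), (128, fv210), (128, fv211), (128, fv212), (128, fv213), (128, fv214), (128, fv215), (128, fv216), (128, fv217), (128, fv218), (128, fv219), (128, fv220), (128, fv221), (128, fv222), (128, fv223), (128, fv224), (128, fv225), (128, fv226), (128, fv227), (128, fv228), (128, fv229),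 (128, fv230), (128, fv231), (128, fv232), (128, fv233), (128, fv234), (128, fv235), (128, fv236), (128, fv237), (128, fv238), (128, fv239), (128, fv240), (128, fv241), (128, fv242), (128, fv243), (128, fv244), (128, fv245), (128, fv246), (128, fv247), (128, fv248), (128, fv249), (128, fv250), (128, fv251), (128, fv252), (128, fv253), (128, fv254), (128, fv255), (128, fv256), (128, fv257), (128, fv258), (128, fv259), (128, fv260), (128, fv261), (128, fv262), (128, fv263), (128, fv264), (128, fv265), (128, fv266), (128, fv267), (128, fv268), (128, fv269), (128, fv270), (128, fv271), (128, fv272), (128, fv273), (128, fv274), (128, fv275), (128, fv276), (128, fv277), (128, fv278), (128, fv279), (128, fv280), (128, fv281), (128, fv282), (128, fv283), (128, fv284), (128, fv285), (128, fv286), (128, fv287), (128, fv288), (128, fv289), (128, fv290), (128, fv291), (128, fv292), (128, fv293), (128, fv294), (128, fv295), (128, fv296), (128, fv297), (128, fv298), (128, fv299), (128, fv300), (128, fv301), (128, fv302), (128, fv303), (128, fv304), (128, fv305), (128, fv306), (128, fv307), (128,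 fv308), (128, fv309), (128, fv310), (113, fv311)]

theorem defsOK : sys.DefsOK 0 [2048,2048,2048,2048,2048,2048,2048,2048,2048,2048,2048,2048,2048,2048,2048,2048,2048,2048,2048,2048,2048,2048,2048,2048,2048,2048,2048,2048,2048,1818] := ⟨dok0, dok1, dok2, dok3, dok4, dok5, dok6, dok7, dok8, dok9, dok10, dok11, dok12, dok13, dok14, dok15, dok16, dok17, dok18, dok19, dok20, dok21, dok22, dok23, dok24, dok25, dok26, dok27, dok28, dok29, trivial⟩

theorem factsOK : sys.FactsOK 61210 fchunks := ⟨fok0, fok1, fok2, fok3, fok4, fok5, fok6, fok7, fok8, fok9, fok10, fok11, fok12, fok13, fok14, fok15, fok16, fok17, fok18, fok19, fok20, fok21, fok22, fok23, fok24, fok25, fok26, fok27, fok28, fok29, fok30, fok31, fok32, fok33, fok34, fok35, fok36, fok37, fok38, fok39, fok40, fok41, fok42, fok43, fok44, fok45, fok46, fok47, fok48, fok49, fok50, fok51, fok52, fok53, fok54, fok55, fok56, fok57, fok58, fok59, fok60, fok61, fok62, fok63, fok64, fok65, fok66, fok67, fok68, fok69, fok70, fok71, fok72, fok73, fok74, fok75, fok76, fok77, fok78, fok79, fok80, fok81, fok82, fok83, fok84, fok85, fok86, fok87,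 fok88, fok89, fok90, fok91, fok92, fok93, fok94, fok95, fok96, fok97, fok98, fok99, fok100, fok101, fok102, fok103, fok104, fok105, fok106, fok107, fok108, fok109, fok110, fok111, fok112, fok113, fok114, fok115, fok116, fok117, fok118, fok119, fok120, fok121, fok122, fok123, fok124, fok125, fok126, fok127, fok128, fok129, fok130, fok131, fok132, fok133, fok134, fok135, fok136, fok137, fok138, fok139, fok140, fok141, fok142, fok143, fok144, fok145, fok146, fok147, fok148, fok149, fok150, fok151, fok152, fok153, fok154, fok155, fok156, fok157, fok158, fok159, fok160, fok161, fok162, fok163, fok164, fok165, fok166, fok167, fok168, fok169, fok170, fok171, fok172, fok173, fok174, fok175, fok176, fok177, fok178, fok179, fok180, fok181, fok182, fok183, fok184, fok185, fok186, fok187, fok188, fok189, fok190, fok191, fok192, fok193, fok194, fok195, fok196, fok197, fok198, fok199, fok200, fok201, fok202, fok203, fok204, fok205, fok206, fok207, fok208, fok209, fok210, fok211, fok212, fok213, fok214, fok215, fok216, fok217, fok218, fok219, fok220, fok221, fok222, fok223, fok224, fok225, fok226,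 fok227, fok228, fok229, fok230, fok231, fok232, fok233, fok234, fok235, fok236, fok237, fok238, fok239, fok240, fok241, fok242, fok243, fok244, fok245, fok246, fok247, fok248, fok249, fok250, fok251, fok252, fok253, fok254, fok255, fok256, fok257, fok258, fok259, fok260, fok261, fok262, fok263, fok264, fok265, fok266, fok267, fok268, fok269, fok270, fok271, fok272, fok273, fok274, fok275, fok276, fok277, fok278, fok279, fok280, fok281, fok282, fok283, fok284, fok285, fok286, fok287, fok288, fok289, fok290, fok291, fok292, fok293, fok294, fok295, fok296, fok297, fok298, fok299, fok300, fok301, fok302, fok303, fok304, fok305, fok306, fok307, fok308, fok309, fok310, fok311, trivial⟩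

theorem rules_ok : sys.rules.all (fun R => R.check sys rels subs) = true := by decide +kernel

theorem rels_one : ∀ W ∈ rels, evalWord val7 W = 1 :=
  List.forall_mem_append.2 ⟨val7_base, List.forall_mem_cons.2 ⟨C0.result_word, List.forall_mem_cons.2 ⟨C1.result_word, List.forall_mem_cons.2 ⟨C3.result_word, List.forall_mem_cons.2 ⟨C4.result_word, List.forall_mem_cons.2 ⟨C5.result_word, List.forall_mem_cons.2 ⟨C6.result_word, List.forall_mem_cons.2 ⟨C7.result_word, List.forall_mem_cons.2 ⟨C8.result_word, List.forall_mem_cons.2 ⟨C9.result_word, List.forall_mem_cons.2 ⟨C10.result_word, List.forall_mem_cons.2 ⟨C11.result_word, List.forall_mem_cons.2 ⟨C12.result_word, List.forall_mem_cons.2 ⟨C13.result_word, List.forall_mem_cons.2 ⟨C14.result_word, List.forall_mem_cons.2 ⟨C15.result_word, List.forall_mem_cons.2 ⟨C16.result_word, List.forall_mem_cons.2 ⟨C17.result_word, List.forall_mem_cons.2 ⟨C18.result_word, List.forall_mem_cons.2 ⟨C19.result_word, List.forall_mem_cons.2 ⟨C20.result_word, List.forall_mem_cons.2 ⟨C21.result_word, List.forall_mem_cons.2 ⟨C22.result_word, List.forall_mem_cons.2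 ⟨C23.result_word, List.forall_mem_cons.2 ⟨C24.result_word, List.forall_mem_cons.2 ⟨S0.result_word, List.forall_mem_cons.2 ⟨S1.result_word, List.forall_mem_cons.2 ⟨S2.result_word, List.forall_mem_cons.2 ⟨S3.result_word, List.forall_mem_cons.2 ⟨S4.result_word, List.forall_mem_nil _⟩⟩⟩⟩⟩⟩⟩⟩⟩⟩⟩⟩⟩⟩⟩⟩⟩⟩⟩⟩⟩⟩⟩⟩⟩⟩⟩⟩⟩⟩

def mchunks : List (ℕ × ℕ) := [(24, mv0), (24, mv1), (24, mv2), (24, mv3), (24, mv4), (24, mv5), (24, mv6), (24, mv7), (24, mv8), (24, mv9), (24, mv10), (24, mv11), (24, mv12), (24, mv13), (24, mv14), (24, mv15), (24, mv16), (24, mv17), (24, mv18), (24, mv19), (24, mv20), (24, mv21), (24, mv22), (24, mv23), (24, mv24), (24, mv25), (24, mv26), (24, mv27)]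

theorem mainOK : MainOK sys 101131 reps 672 gens 0 mchunks := ⟨mok0, mok1, mok2, mok3, mok4, mok5, mok6, mok7, mok8, mok9, mok10, mok11, mok12, mok13, mok14, mok15, mok16, mok17, mok18, mok19, mok20, mok21, mok22, mok23, mok24, mok25, mok26, mok27, trivial⟩

theorem result_index : (wspan val7 subs).relIndex (wspan val7 gens) ≠ 0 ∧
    (wspan val7 subs).relIndex (wspan val7 gens) ≤ 672 :=
  relIndex_le_of_cert (val7_letters (S := sys) rfl (by decide +kernel)) rels_one subs rules_ok [2048,2048,2048,2048,2048,2048,2048,2048,2048,2048,2048,2048,2048,2048,2048,2048,2048,2048,2048,2048,2048,2048,2048,2048,2048,2048,2048,2048,2048,1818] fchunks mchunks defsOK (by decide)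
    factsOK (hfs := (by decide +kernel : 61210 + (fchunks.map Prod.fst).sum = 101131)) gens mainOK (by decide +kernel) (by decide) (by decide +kernel)

end Cfsg.Agent.J4Rep94.M672
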